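import Cfsg.Agent.TAB.Sm1.Tool
import Cfsg.Agent.TAB.Co.Fin

/-!
# The table of `HS` : numerical data and certificates (helper88, TAB)

The types (orbits of the automorphism group) are 0:1a 1:2b 2:2a 3:3a 4:4a 5:4c 6:4b 7:5b 8:5a 9:5c 10:6a 11:6b 12:7a 13:8bc 14:8a 15:10a 16:10b 17:11ab 18:12a
19:15a 20:20ab.
-/

set_option autoImplicit false
set_option maxRecDepth 100000

namespace Cfsg.Agent.TAB.HS

open Cfsg Cfsg.Agent.TAB.Eng Cfsg.Agent.TAB.Use Cfsg.Agent.TAB.Co Cfsg.Agent.TAB.Sm2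

/-- the types -/
def D : Dat where
n := 21
N := 44352000
ordL := [1, 2, 2, 3, 4, 4, 4, 5, 5, 5, 6, 6, 7, 8, 8, 10, 10, 11, 12, 15, 20]
cntL := [1, 15400, 5775, 123200, 11550, 693000, 173250, 147840, 88704, 1774080, 1232000, 1848000, 6336000, 5544000,
    2772000, 2217600, 2217600, 8064000, 3696000, 2956800, 4435200]
pwL := [[],
[(1, 1)],
[(1, 2)],
[(1, 3)],
[(1, 4), (2, 2)],
[(1, 5), (2, 2)],
[(1, 6), (2, 2)],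
[(1, 7)],
[(1, 8)],
[(1, 9)],
[(1, 10), (2, 3), (3, 1)],
[(1, 11), (2, 3), (3, 2)],
[(1, 12)],
[(1, 13), (2, 5), (4, 2)],
[(1, 14), (2, 6), (4, 2)],
[(1, 15), (2, 8), (5, 2)],
[(1, 16), (2, 7), (5, 1)],
[(1, 17)],
[(1, 18), (2, 11), (3, 4), (4, 3), (6, 2)],
[(1, 19), (3, 7), (5, 3)],
[(1, 20), (2, 15), (4, 8), (5, 4), (10, 2)]]

/-- the seeds : the characters of degrees 22, 77 and the number of square roots -/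
def seeds : List (List ℤ) := [
[22, -2, 6, 4, -6, 2, 2, 2, -3, 2, -2, 0, 1, 0, 0, 1, -2, 0, 0, -1, -1],
[77, 1, 13, 5, 5, 1, 5, -3, 2, 2, 1, 1, 0, -1, 1, -2, 1, 0, -1, 0, 0],
[21176, 0, 152, 26, 0, 8, 16, 16, 26, 1, 0, 2, 1, 0, 0, 2, 0, 1, 0, 1, 0]]

/-- the invariant irreducible characters -/
def A : List (List ℤ) := [
[1, 1, 1, 1, 1, 1, 1, 1, 1, 1, 1, 1, 1, 1, 1, 1, 1, 1, 1, 1, 1],
[22, -2, 6, 4, -6, 2, 2, 2, -3, 2, -2, 0, 1, 0, 0, 1, -2, 0, 0, -1, -1],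
[77, 1, 13, 5, 5, 1, 5, -3, 2, 2, 1, 1, 0, -1, 1, -2, 1, 0, -1, 0, 0],
[154, 10, 10, 1, -2, -2, 6, 4, 4, -1, 1, 1, 0, 0, 0, 0, 0, 0, 1, 1, -2],
[175, 11, 15, 4, 15, 3, -1, 5, 0, 0, 2, 0, 0, 1, -1, 0, 1, -1, 0, -1, 0],
[231, -9, 7, 6, 15, -1, -1, 1, 6, 1, 0, -2, 0, -1, -1, 2, 1, 0, 0, 1, 0],
[693, 9, 21, 0, 21, 1, 5, 3, -7, -2, 0, 0, 0, -1, 1, 1, -1, 0, 0, 0, 1],
[770, -10, 34, 5, -14, -2, 2, 0, -5, 0, -1, 1, 0, 0, -2, -1, 0, 0, 1, 0, 1],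
[825, 9, 25, 6, -15, 1, 1, -5, 0, 0, 0, -2, -1, 1, 1, 0, -1, 0, 0, 1, 0],
[1056, 0, 32, -6, 0, 0, 0, -4, 6, 1, 0, 2, -1, 0, 0, 2, 0, 0, 0, -1, 0],
[1386, 18, -6, 0, 6, -2, -2, 6, 11, 1, 0, 0, 0, 0, 0, -1, -2, 0, 0, 0, 1],
[1408, 16, 0, 4, 0, 0, 0, -7, 8, -2, -2, 0, 1, 0, 0, 0, 1, 0, 0, -1, 0],
[1750, 10, -10, -5, -10, 2, 6, 0, 0, 0, 1, -1, 0, 0, -2, 0, 0, 1, -1, 0, 0],
[1925, 1, 5, -1, -35, 1, -3, 5, 0, 0, 1, -1, 0, -1, 1, 0, 1, 0, 1, -1, 0],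
[1925, -19, 5, -1, 5, -3, 5, 5, 0, 0, -1, -1, 0, 1, 1, 0, 1, 0, -1, -1, 0],
[2520, 0, 24, 0, 24, 0, -8, 0, -5, 0, 0, 0, 0, 0, 0, -1, 0, 1, 0, 0, -1],
[2750, -10, -50, 5, 10, 2, 2, 0, 0, 0, -1, 1, -1, 0, 0, 0, 0, 0, 1, 0, 0],
[3200, -16, 0, -4, 0, 0, 0, -5, 0, 0, 2, 0, 1, 0, 0, 0, -1, -1, 0, 1, 0]]

/-- the sums of two characters -/
def B : List (List ℤ) := [
[308, -20, 20, 2, -20, 4, -4, 8, 8, -2, -2, 2, 0, 0, 0, 0, 0, 0, -2, 2, 0],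
[1540, 20, -28, 10, -20, -4, -4, 0, -10, 0, 2, 2, 0, 0, 0, 2, 0, 0, -2, 0, 0],
[1792, 32, 0, -8, 0, 0, 0, 2, -8, 2, -4, 0, 0, 0, 0, 0, 2, -1, 0, 2, 0]]

/-- the degrees -/
def degL : List ℕ := [1, 22, 77, 154, 175, 231, 693, 770, 825, 1056, 1386, 1408, 1750, 1925, 1925, 2520, 2750, 3200,
    154, 154, 770, 770, 896, 896]

/-- the primes and the sections -/
def PL : List (ℕ × ℕ × List ℕ) := [(2, 9, [0, 3, 7, 8]),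
  (3, 2, [0, 1, 2, 4, 7]),
  (5, 3, [0, 1, 2, 3, 4]),
  (7, 1, [0]),
  (11, 1, [0])]

/-- the certificates -/
def CA : List (ℕ × ℕ × List Cert) := [
  (2, 9, [
⟨0, [.one, .gen 0 1 0, .mul 0 0, .mul 1 0, .gen 1 1 0, .mul 3 0, .mul 4 0, .mul 2 2, .lin [(34, 6), (273, 5), (223, 4), (354, 2), (239, 1)], .lin
      [(511, 8), (319, 7), (193, 3), (1, 1)], .lin [(235, 8), (277, 4)], .lin [(2, 9), (1, 8)], .lin [(255, 10)], .lin [(1, 12), (1, 8)], .lin [(1,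
      13)]], [(6, 1), (7, 2), (1, 2), (4, 8), (3, 8), (5, 32), (0, 32)]⟩,
⟨3, [.one, .gen 0 1 0, .mul 0 0, .gen 1 1 0, .lin [(4, 3), (86, 2), (425, 1), (4, 0)], .lin [(205, 4), (461, 3), (205, 1)], .lin [(2, 5), (1, 4)],
      .lin [(1, 6)]], [(1, 1), (3, 2), (0, 2), (2, 8)]⟩,
⟨7, [.one, .gen 0 1 0, .lin [(258, 1), (383, 0)], .lin [(1, 2)]], [(0, 1), (1, 4)]⟩,
⟨8, [.one, .gen 0 1 0, .gen 2 1 0, .lin [(56, 2), (54, 1), (457, 0)], .lin [(3, 3), (1, 2)], .lin [(1, 4)]], [(0, 1), (1, 4), (2, 2)]⟩]),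
  (3, 2, [
⟨0, [.one, .lin [(1, 0)]], [(0, 1)]⟩,
⟨1, [.one, .lin [(1, 0)]], [(0, 1)]⟩,
⟨2, [.one, .gen 0 1 0, .lin [(3, 1), (1, 0)], .lin [(1, 2)]], [(0, 1), (1, 3)]⟩,
⟨4, [.one, .gen 0 1 0, .lin [(3, 1), (5, 0)], .lin [(1, 2)]], [(0, 1), (1, 3)]⟩,
⟨7, [.one, .gen 0 1 0, .lin [(8, 1), (5, 0)], .lin [(1, 2)]], [(0, 1), (1, 3)]⟩]),
  (5, 3, [
⟨0, [.one, .gen 0 1 0, .gen 1 1 0, .lin [(62, 2), (94, 1)], .lin [(3, 3), (1, 1)], .lin [(1, 4)]], [(1, 1), (3, 5), (0, 5)]⟩,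
⟨1, [.one, .gen 0 2 0, .lin [(118, 1), (6, 0)], .lin [(1, 2)]], [(0, 1), (1, 5)]⟩,
⟨2, [.one, .gen 0 1 0, .lin [(31, 1), (99, 0)], .lin [(1, 2)]], [(0, 1), (1, 5)]⟩,
⟨3, [.one, .gen 0 1 0, .lin [(104, 1), (99, 0)], .lin [(1, 2)]], [(0, 1), (1, 5)]⟩,
⟨4, [.one, .gen 0 1 0, .lin [(6, 1), (1, 0)], .lin [(1, 2)]], [(0, 1), (1, 5)]⟩]),
  (7, 1, [
⟨0, [.one, .lin [(1, 0)]], [(0, 1)]⟩]),
  (11, 1, [
⟨0, [.one, .lin [(1, 0)]], [(0, 1)]⟩])]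

theorem ok_A : Sm1.okC D PL CA seeds (A ++ B) = true := by decide +kernel

theorem ok_rows : okRows' D A B = true := by decide +kernel

theorem deg_eq : (mkRows A B).deg = degL := by decide +kernel

variable {G : Type*} [Group G] [Finite G]

theorem tab {T : TD G D} (hm : T.Mass) (hs : ∀ v ∈ seeds, Virt T (nth v)) : Inh T ∧ Tab T (mkRows A B) :=
  tab_of_virt hm (by decide +kernel) (Sm1.virt_okC hm.1 hs ok_A) ok_rows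

/-- **the consequences of the table** -/
theorem fin (h : Seeded G D seeds) : VAN.Van3 G ∧ OddRat G ∧ OddSig G ∧ DegList G degL := by
  obtain ⟨T, hm, hs⟩ := h
  obtain ⟨hI, hT⟩ := tab hm hs
  exact ⟨hT.van3 hI hm.1 [(2, 9), (3, 2), (5, 3), (7, 1), (11, 1)] (by decide) 2 12 17
      (by decide +kernel), hT.oddRat hI [] rfl (by decide +kernel),
    hT.oddSig hI [] rfl [] (fun _ h => by cases h) (by decide +kernel), deg_eq ▸ hT.degList⟩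

end Cfsg.Agent.TAB.HS
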